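import Groth.Agent.Gor18.Basic
import Groth.Agent.Gor18.Local
import Groth.Agent.Gor18.Poly
import Groth.Agent.Gor18.Flat
import Mathlib.Algebra.Polynomial.AlgebraMap
import Mathlib.RingTheory.FiniteType

/-! The semigroup ring of a numerical semigroup is Gorenstein at the monomial maximal ideal
exactly when there is exactly one pseudo-Frobenius number. -/

set_option autoImplicit false
set_option linter.unusedSectionVars false
universe u

open Polynomial IsLocalRing

namespace Groth.Agent.SemigroupGor19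

variable (k : Type u) [Field k] (H : AddSubmonoid ℕ)

/-- polynomials supported on `H` -/
def SG : Subalgebra k k[X] where
  carrier := {p | ∀ n, n ∉ H → p.coeff n = 0}
  mul_mem' {p q} hp hq n hn := by
    rw [coeff_mul]
    refine Finset.sum_eq_zero fun x hx => ?_
    rw [Finset.HasAntidiagonal.mem_antidiagonal] at hx
    by_cases h1 : x.1 ∈ H
    · by_cases h2 : x.2 ∈ H
      · exact absurd (hx ▸ H.add_mem h1 h2) hn
      · rw [hq _ h2, mul_zero]
    · rw [hp _ h1, zero_mul]
  add_mem' {p q} hp hq n hn := by rw [coeff_add, hp n hn, hq n hn, add_zero]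
  algebraMap_mem' c n hn := by
    rw [Polynomial.algebraMap_apply, coeff_C, if_neg]
    rintro rfl
    exact hn H.zero_mem

variable {k H}

theorem mem_SG {p : k[X]} : p ∈ SG k H ↔ ∀ n, n ∉ H → p.coeff n = 0 := Iff.rfl

theorem monomial_mem {n : ℕ} (hn : n ∈ H) (a : k) : monomial n a ∈ SG k H := by
  intro m hm
  rw [coeff_monomial, if_neg]
  rintro rfl
  exact hm hn

/-- monomial -/
noncomputable def mon {n : ℕ} (hn : n ∈ H) : SG k H := ⟨monomial n 1, monomial_mem hn 1⟩

theorem coe_mon {n : ℕ} (hn : n ∈ H) : ((mon hn : SG k H) : k[X]) = monomial n 1 := rfl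

variable (k H)

/-- the monomial maximal ideal -/
noncomputable def mB : Ideal (SG k H) :=
  RingHom.ker (Polynomial.constantCoeff.comp (SG k H).val.toRingHom)

variable {k H}

theorem mem_mB {p : SG k H} : p ∈ mB k H ↔ (p : k[X]).coeff 0 = 0 := Iff.rfl

instance mB_isMaximal : (mB k H).IsMaximal :=
  RingHom.ker_isMaximal_of_surjective _ fun c => ⟨algebraMap k (SG k H) c, by simp⟩

theorem coeff_monomial_mul' (g : ℕ) (p : k[X]) (m : ℕ) :
    (monomial g (1 : k) * p).coeff m = if g ≤ m then p.coeff (m - g) else 0 := by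
  rw [monomial_one_right_eq_X_pow, coeff_X_pow_mul']

variable {c : ℕ} (hc : ∀ n, c ≤ n → n ∈ H)

/-- the parameter `X^c` -/
noncomputable def yy : SG k H := mon (hc c le_rfl)

theorem mem_span_yy {p : SG k H} : p ∈ Ideal.span {yy (k := k) hc} ↔
    ∀ n, (p : k[X]).coeff n ≠ 0 → c ≤ n ∧ n - c ∈ H := by
  rw [Ideal.mem_span_singleton']
  constructor
  · rintro ⟨q, rfl⟩ n hn
    rw [MulMemClass.coe_mul, mul_comm, yy, coe_mon, coeff_monomial_mul'] at hn
    split_ifs at hn with h
    · exact ⟨h, by_contra fun hnH => hn (q.2 _ hnH)⟩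
    · exact absurd rfl hn
  · intro h
    obtain ⟨q, hq⟩ : (X : k[X]) ^ c ∣ (p : k[X]) := by
      rw [X_pow_dvd_iff]
      intro d hd
      by_contra h0
      have := (h d h0).1
      omega
    have hqm : q ∈ SG k H := fun n hn => by
      by_contra h0
      have := h (n + c) (by
        rw [hq, coeff_X_pow_mul']
        simpa using h0)
      simp only [Nat.add_sub_cancel] at this
      exact hn this.2
    refine ⟨⟨q, hqm⟩, Subtype.ext ?_⟩
    rw [MulMemClass.coe_mul, yy, coe_mon, ← monomial_one_right_eq_X_pow] at *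
    rw [hq, mul_comm]

theorem mB_pow_le (hc0 : c ≠ 0) : (mB k H) ^ (2 * c) ≤ Ideal.span {yy (k := k) hc} := by
  intro p hp
  rw [mem_span_yy]
  intro n hn
  have h : ∀ N : ℕ, (mB k H) ^ N ≤ (Ideal.span {(X : k[X]) ^ N}).comap (SG k H).val.toRingHom := by
    intro N
    have h1 : mB k H ≤ (Ideal.span {(X : k[X])}).comap (SG k H).val.toRingHom := fun q hq => by
      rw [Ideal.mem_comap, Ideal.mem_span_singleton, X_dvd_iff]
      exact hq
    rw [← Ideal.span_singleton_pow]
    exact (Ideal.pow_right_mono h1 N).trans (Ideal.le_comap_pow _ N)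
  have h2 := h (2 * c) hp
  rw [Ideal.mem_comap, Ideal.mem_span_singleton, X_pow_dvd_iff] at h2
  have : ¬ n < 2 * c := fun hlt => hn (h2 n hlt)
  exact ⟨by omega, hc _ (by omega)⟩

include hc in
theorem sum_mon_mem_adjoin (n : ℕ) (hn : n ∈ H) :
    mon (k := k) hn ∈ Algebra.adjoin k
      {z : SG k H | ∃ (i : ℕ) (hi : i ∈ H), i ≤ 2 * c + 1 ∧ z = mon hi} := by
  induction n using Nat.strong_induction_on with
  | _ n ih =>
    by_cases h : n ≤ 2 * c + 1
    · exact Algebra.subset_adjoin ⟨n, hn, h, rfl⟩
    · have h1 := hc (n - (c + 1)) (by omega)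
      have h2 := hc (c + 1) (by omega)
      have e : mon (k := k) hn = mon h1 * mon h2 := Subtype.ext (by
        rw [MulMemClass.coe_mul, coe_mon, coe_mon, coe_mon, monomial_mul_monomial, one_mul,
          Nat.sub_add_cancel (by omega)])
      rw [e]
      exact mul_mem (ih _ (by omega) h1)
        (Algebra.subset_adjoin ⟨_, h2, by omega, rfl⟩)

theorem eq_sum_mon (p : SG k H) : p = ∑ n ∈ (p : k[X]).support.attach,
    (p : k[X]).coeff n.1 • mon (k := k) (n := n.1) (by
      by_contra h; exact mem_support_iff.1 n.2 (p.2 _ h)) := by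
  apply Subtype.ext
  rw [AddSubmonoidClass.coe_finsetSum]
  simp only [SetLike.val_smul, coe_mon, smul_monomial, smul_eq_mul, mul_one]
  rw [Finset.sum_attach _ fun n => monomial n ((p : k[X]).coeff n)]
  exact ((p : k[X]).as_sum_support)

include hc in
theorem finiteType : Algebra.FiniteType k (SG k H) := by
  refine ⟨Subalgebra.fg_def.2 ⟨{z : SG k H | ∃ (i : ℕ) (hi : i ∈ H), i ≤ 2 * c + 1 ∧ z = mon hi},
    ?_, top_le_iff.1 fun p _ => ?_⟩⟩
  · refine ((Set.finite_Iic (2 * c + 1)).image
      (fun i => (open Classical in if hi : i ∈ H then mon (k := k) hi else 0))).subset ?_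
    rintro _ ⟨i, hi, hile, rfl⟩
    exact ⟨i, hile, by simp [hi]⟩
  · rw [eq_sum_mon p]
    exact sum_mem fun n _ => Subalgebra.smul_mem _ (sum_mon_mem_adjoin hc n.1 _) _

/-- the Artinian quotient -/
abbrev CC : Type u := SG k H ⧸ Ideal.span {yy (k := k) hc}

theorem isLocalRing_CC (hc0 : c ≠ 0) : IsLocalRing (CC (k := k) hc) := by
  have hle : Ideal.span {yy (k := k) hc} ≤ mB k H := by
    rw [Ideal.span_singleton_le_iff_mem, mem_mB, yy, coe_mon, coeff_monomial, if_neg hc0]
  have hmax : ((mB k H).map (Ideal.Quotient.mk (Ideal.span {yy (k := k) hc}))).IsMaximal :=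
    Ideal.IsMaximal.map_of_surjective_of_ker_le Ideal.Quotient.mk_surjective (by
      rwa [Ideal.mk_ker])
  refine IsLocalRing.of_unique_max_ideal ⟨(mB k H).map (Ideal.Quotient.mk (Ideal.span {yy (k := k) hc})), hmax, fun I hI => ?_⟩
  refine (hmax.eq_of_le hI.ne_top ?_).symm
  rw [Ideal.map_le_iff_le_comap]
  intro p hp
  have : (Ideal.Quotient.mk (Ideal.span {yy (k := k) hc}) p) ^ (2 * c) ∈ I := by
    rw [← map_pow, Ideal.Quotient.eq_zero_iff_mem.2 (mB_pow_le hc hc0 (Ideal.pow_mem_pow hp _))]
    exact zero_mem _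
  exact hI.isPrime.mem_of_pow_mem _ this

theorem finite_CC : Module.Finite k (CC (k := k) hc) := by
  classical
  let f : ℕ → CC (k := k) hc := fun i =>
    if hi : i ∈ H then Ideal.Quotient.mk _ (mon hi) else 0
  refine ⟨⟨(Finset.range (2 * c)).image f, ?_⟩⟩
  rw [eq_top_iff]
  intro x _
  obtain ⟨p, rfl⟩ := Ideal.Quotient.mk_surjective x
  rw [eq_sum_mon p, map_sum]
  refine sum_mem fun n _ => ?_
  have hn : n.1 ∈ H := by
    by_contra h; exact mem_support_iff.1 n.2 (p.2 _ h)
  rw [← Ideal.Quotient.mkₐ_eq_mk k, map_smul]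
  refine Submodule.smul_mem _ _ ?_
  rw [Ideal.Quotient.mkₐ_eq_mk]
  by_cases h : n.1 < 2 * c
  · refine Submodule.subset_span ?_
    rw [Finset.coe_image]
    exact ⟨n.1, by simpa using h, by simp [f, hn]⟩
  · have : Ideal.Quotient.mk (Ideal.span {yy (k := k) hc}) (mon hn) = 0 := by
      rw [Ideal.Quotient.eq_zero_iff_mem, mem_span_yy]
      intro m hm
      rw [coe_mon, coeff_monomial] at hm
      split_ifs at hm with he
      · subst he; exact ⟨by omega, hc _ (by omega)⟩
      · exact absurd rfl hm
    rw [this]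
    exact zero_mem _

/-- a pseudo-Frobenius number -/
def IsPF (H : AddSubmonoid ℕ) (f : ℕ) : Prop := f ∉ H ∧ ∀ γ, γ ∈ H → γ ≠ 0 → f + γ ∈ H

variable (hc0 : c ≠ 0) (hc1 : c - 1 ∉ H)
include hc hc0 hc1

theorem gor_CC_iff : LocCoh.IsGorensteinLocalRing (CC (k := k) hc) ↔ ∃! f, IsPF H f := by
  classical
  have := isLocalRing_CC (k := k) hc hc0
  have := finiteType (k := k) hc
  have : IsNoetherianRing (SG k H) := Algebra.FiniteType.isNoetherianRing k _
  have := finite_CC (k := k) hc
  have : IsArtinianRing (CC (k := k) hc) := IsArtinianRing.of_finite k _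
  rw [Gor18.artinian_gor_iff_simple_socle]
  let π := Ideal.Quotient.mk (Ideal.span {yy (k := k) hc})
  have hmax : maximalIdeal (CC (k := k) hc) = (mB k H).map π := by
    refine (IsLocalRing.eq_maximalIdeal (Ideal.IsMaximal.map_of_surjective_of_ker_le
      Ideal.Quotient.mk_surjective ?_)).symm
    rw [Ideal.mk_ker, Ideal.span_singleton_le_iff_mem, mem_mB, yy, coe_mon, coeff_monomial,
      if_neg hc0]
  let soc : Submodule (CC (k := k) hc) (CC (k := k) hc) :=
    LocCoh.torsionBy (R := CC (k := k) hc) (maximalIdeal (CC (k := k) hc)) (CC (k := k) hc)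
  have hsoc : ∀ p : SG k H, π p ∈ soc ↔ ∀ q ∈ mB k H, p * q ∈ Ideal.span {yy (k := k) hc} := by
    intro p
    rw [Submodule.mem_torsionBySet_iff]
    constructor
    · intro h q hq
      have := h ⟨π q, hmax ▸ Ideal.mem_map_of_mem π hq⟩
      have h' : π (q * p) = 0 := (map_mul π q p).trans this
      rw [mul_comm]
      exact Ideal.Quotient.eq_zero_iff_mem.1 h'
    · rintro h ⟨a, ha⟩
      rw [SetLike.mem_coe, hmax, Ideal.mem_map_iff_of_surjective π Ideal.Quotient.mk_surjective] at ha
      obtain ⟨q, hq, rfl⟩ := ha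
      show π q * π p = 0
      rw [← map_mul, mul_comm, Ideal.Quotient.eq_zero_iff_mem]
      exact h q hq
  -- socle monomials
  have hPF : ∀ f, IsPF H f → ∀ hn : c + f ∈ H, π (mon hn) ∈ soc := by
    intro f hf hn
    rw [hsoc]
    intro q hq
    rw [mem_span_yy]
    intro n h0
    rw [MulMemClass.coe_mul, coe_mon, coeff_monomial_mul'] at h0
    split_ifs at h0 with hle
    · have hγ : n - (c + f) ∈ H := by_contra fun h => h0 (q.2 _ h)
      have hγ0 : n - (c + f) ≠ 0 := fun h => h0 (by rw [h]; exact hq)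
      refine ⟨by omega, ?_⟩
      have := hf.2 _ hγ hγ0
      rwa [show f + (n - (c + f)) = n - c by omega] at this
    · exact absurd rfl h0
  have hne : ∀ f, f ∉ H → ∀ hn : c + f ∈ H, π (mon (k := k) hn) ≠ 0 := by
    intro f hf hn h
    rw [Ideal.Quotient.eq_zero_iff_mem, mem_span_yy] at h
    have := (h (c + f) (by rw [coe_mon, coeff_monomial, if_pos rfl]; exact one_ne_zero)).2
    rw [Nat.add_sub_cancel_left] at this
    exact hf this
  have hF : IsPF H (c - 1) := ⟨hc1, fun γ _ hγ0 => hc _ (by omega)⟩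
  have hnF : c + (c - 1) ∈ H := hc _ (by omega)
  constructor
  · intro hs
    refine ⟨c - 1, hF, fun f hf => ?_⟩
    by_contra hne'
    have hn : c + f ∈ H := hc _ (by omega)
    have hsp : Submodule.span (CC (k := k) hc) {π (mon hn)} = soc := by
      have hle : Submodule.span (CC (k := k) hc) {π (mon hn)} ≤ soc := by
        rw [Submodule.span_singleton_le_iff_mem]; exact hPF f hf hn
      have hat : IsAtom soc := isSimpleModule_iff_isAtom.1 hs
      rcases hat.le_iff.1 hle with h | h
      · exact absurd (Submodule.span_singleton_eq_bot.1 h) (hne f hf.1 hn)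
      · exact h
    have := hPF (c - 1) hF hnF
    rw [← hsp, Submodule.mem_span_singleton] at this
    obtain ⟨a, ha⟩ := this
    obtain ⟨q, rfl⟩ := Ideal.Quotient.mk_surjective a
    rw [smul_eq_mul, ← map_mul, Ideal.Quotient.eq, mem_span_yy] at ha
    -- coefficient at `2c - 1`
    by_cases h0 : ((q * mon hn - mon hnF : SG k H) : k[X]).coeff (c + (c - 1)) = 0
    · rw [AddSubgroupClass.coe_sub, MulMemClass.coe_mul, mul_comm, coe_mon, coe_mon, coeff_sub,
        coeff_monomial_mul', coeff_monomial, if_pos rfl] at h0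
      split_ifs at h0 with hle
      · have hq : (q : k[X]).coeff (c + (c - 1) - (c + f)) ≠ 0 := by
          intro h; rw [h, zero_sub, neg_eq_zero] at h0; exact one_ne_zero h0
        have hγ : c + (c - 1) - (c + f) ∈ H := by_contra fun h => hq (q.2 _ h)
        have := hf.2 _ hγ (by omega)
        rw [show f + (c + (c - 1) - (c + f)) = c - 1 by omega] at this
        exact hc1 this
      · rw [zero_sub, neg_eq_zero] at h0
        exact one_ne_zero h0
    · have := (ha _ h0).2
      rw [Nat.add_sub_cancel_left] at this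
      exact hc1 this
  · rintro ⟨f₀, -, huniq⟩
    rw [isSimpleModule_iff_isAtom]
    show IsAtom soc
    refine ⟨fun h => hne _ hc1 hnF ((Submodule.eq_bot_iff _).1 h _ (hPF _ hF hnF)), fun N hN => ?_⟩
    by_contra hNb
    obtain ⟨x, hx, hx0⟩ := (Submodule.ne_bot_iff _).1 hNb
    -- socle elements are multiples of the top monomial
    have hshape : ∀ p : SG k H, π p ∈ soc →
        π p = π (algebraMap k (SG k H) ((p : k[X]).coeff (c + (c - 1)))) * π (mon hnF) := by
      intro p hp
      rw [← map_mul, Ideal.Quotient.eq, mem_span_yy]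
      intro n h0
      rw [AddSubgroupClass.coe_sub, MulMemClass.coe_mul, coe_mon, Subalgebra.coe_algebraMap,
        Polynomial.algebraMap_apply, Algebra.algebraMap_self, RingHom.id_apply, C_mul_monomial,
        mul_one, coeff_sub, coeff_monomial] at h0
      split_ifs at h0 with he
      · subst he; exact absurd (sub_self _) h0
      rw [sub_zero] at h0
      by_contra hcon
      -- every shift of `n` lands in `c + H`
      have key : ∀ γ, γ ∈ H → γ ≠ 0 → c ≤ n + γ ∧ n + γ - c ∈ H := by
        intro γ hγ hγ0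
        refine (mem_span_yy hc).1 ((hsoc p).1 hp (mon hγ) ?_) (n + γ) ?_
        · rw [mem_mB, coe_mon, coeff_monomial, if_neg hγ0]
        · rw [MulMemClass.coe_mul, mul_comm, coe_mon, coeff_monomial_mul',
            if_pos (Nat.le_add_left γ n), Nat.add_sub_cancel]
          exact h0
      have hnH : n ∈ H := by_contra fun h => h0 (p.2 _ h)
      rcases Nat.lt_or_ge n c with hlt | hge
      · have := (key (c + (c - 1 - n)) (hc _ (by omega)) (by omega)).2
        rw [show n + (c + (c - 1 - n)) - c = c - 1 by omega] at this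
        exact hc1 this
      · have hfH : n - c ∉ H := fun h => hcon ⟨hge, h⟩
        have hf : IsPF H (n - c) := ⟨hfH, fun γ hγ hγ0 => by
          have := (key γ hγ hγ0).2
          rwa [show n + γ - c = n - c + γ by omega] at this⟩
        have := (huniq _ hf).trans (huniq _ hF).symm
        omega
    obtain ⟨p, rfl⟩ := Ideal.Quotient.mk_surjective x
    have hp := hshape p (hN.le hx)
    have ha : (p : k[X]).coeff (c + (c - 1)) ≠ 0 := fun h => hx0 (by
      show π p = 0
      rw [hp, h, map_zero, map_zero, zero_mul])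
    refine hN.not_ge fun z hz => ?_
    obtain ⟨q, rfl⟩ := Ideal.Quotient.mk_surjective z
    have : π q = π (algebraMap k (SG k H) ((q : k[X]).coeff (c + (c - 1)) /
        (p : k[X]).coeff (c + (c - 1)))) * π p := by
      rw [hshape q hz, hp, ← mul_assoc]
      refine congrArg (· * π (mon hnF)) ?_
      rw [← map_mul π, ← map_mul (algebraMap k (SG k H)), div_mul_cancel₀ _ ha]
    show π q ∈ N
    rw [this]
    exact N.smul_mem _ hx

omit hc hc0 hc1 in
theorem gor_atPrime_of_units (A : Type u) [CommRing A] (q : Ideal A) [q.IsPrime]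
    (hq : ∀ x, x ∉ q → IsUnit x) :
    LocCoh.IsGorensteinLocalRing (Localization.AtPrime q) ↔ LocCoh.IsGorensteinLocalRing A :=
  Gor18.gor_congr (IsLocalization.atUnits A q.primeCompl (S := Localization.AtPrime q)
    (fun x hx => by simpa [IsUnit.mem_submonoid_iff] using hq x hx)).symm.toRingEquiv

omit hc hc0 hc1 in
theorem gor_quotient_local {A : Type u} [CommRing A] [IsNoetherianRing A] (f : A)
    (hf : IsSMulRegular A f) [IsLocalRing (A ⧸ Ideal.span {f})] (p : Ideal A) [p.IsMaximal]
    (hfp : f ∈ p) :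
    LocCoh.IsGorensteinLocalRing (Localization.AtPrime p) ↔
      LocCoh.IsGorensteinLocalRing (A ⧸ Ideal.span {f}) := by
  let q := p.map (Ideal.Quotient.mk (Ideal.span {f}))
  have hqm : q.IsMaximal := Ideal.IsMaximal.map_of_surjective_of_ker_le
    Ideal.Quotient.mk_surjective (by rwa [Ideal.mk_ker, Ideal.span_singleton_le_iff_mem])
  have hcomap : q.comap (Ideal.Quotient.mk (Ideal.span {f})) = p := by
    rw [Ideal.comap_map_of_surjective _ Ideal.Quotient.mk_surjective, ← RingHom.ker_eq_comap_bot,
      Ideal.mk_ker, sup_eq_left, Ideal.span_singleton_le_iff_mem]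
    exact hfp
  have h1 := Gor18.gor_atPrime_quotient_iff (f := f) q
    (Gor18.gorRing_quotient.smulRegular_localization hf _)
  rw [← gor_atPrime_of_units _ q (fun x hx => by
    by_contra h
    exact hx ((IsLocalRing.eq_maximalIdeal hqm).symm ▸ h)), h1]
  exact Gor18.gor_congr (IsLocalization.ringEquivOfRingEquiv (M := p.primeCompl)
    (T := (q.comap (Ideal.Quotient.mk (Ideal.span {f}))).primeCompl) (Localization.AtPrime p)
    (Localization.AtPrime (q.comap (Ideal.Quotient.mk (Ideal.span {f})))) (RingEquiv.refl A) (by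
      ext x; simp [hcomap]))

/-- localized form -/
theorem gor_atPrime_iff : LocCoh.IsGorensteinLocalRing (Localization.AtPrime (mB k H)) ↔
    ∃! f, IsPF H f := by
  have := isLocalRing_CC (k := k) hc hc0
  have := finiteType (k := k) hc
  have : IsNoetherianRing (SG k H) := Algebra.FiniteType.isNoetherianRing k _
  rw [← gor_CC_iff (k := k) hc hc0 hc1]
  refine gor_quotient_local (yy (k := k) hc) (fun a b hab =>
    mul_left_cancel₀ (fun h => one_ne_zero (α := k) ?_) hab) (mB k H) ?_
  · have := congrArg (fun z : SG k H => (z : k[X]).coeff c) h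
    simpa [yy, coe_mon] using this
  · rw [mem_mB, yy, coe_mon, coeff_monomial, if_neg hc0]

end Groth.Agent.SemigroupGor19
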